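import Mathlib
import Cfsg.Agent.H518.SUIrr

/-!
# Centralizers and normalizers of irreducible elements (helper230)

`T` an irreducible linear transformation of the `n`-dimensional space `V` over `F_q`. Then the centralizer of `T` in a
group of linear transformations of determinant one is abelian, of order dividing `q ^ n - 1` and at most
`(q ^ n - 1) / (q - 1)`; at most `n` powers of `T` are conjugate to `T`.
-/

set_option autoImplicit false
set_option linter.unusedSectionVars false

namespace Cfsg.Agent.H230.AS

open Module Polynomial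

universe u v w

section

variable {F : Type u} [Field F] {V : Type v} [AddCommGroup V] [Module F V]

/-- no invariant subspaces -/
def Irr (T : V →ₗ[F] V) : Prop := ∀ U : Submodule F V, (∀ v ∈ U, T v ∈ U) → U = ⊥ ∨ U = ⊤

theorem ker_eq_bot_of_comm {T S : V →ₗ[F] V} (hT : Irr T) (hc : S * T = T * S) (hS : S ≠ 0) : LinearMap.ker S = ⊥ := by
  refine (hT _ fun v hv => ?_).resolve_right fun h => hS (LinearMap.ker_eq_top.1 h)
  rw [LinearMap.mem_ker] at hv ⊢
  have h1 := LinearMap.congr_fun hc v
  rw [Module.End.mul_apply, Module.End.mul_apply, hv, map_zero] at h1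
  exact h1

theorem comm_aeval {T S : Module.End F V} (hc : S * T = T * S) (f : F[X]) : S * aeval T f = aeval T f * S := by
  have h1 : Commute S T := hc
  have h2 : Commute S (aeval T f) := by
    induction f using Polynomial.induction_on' with
    | add p q hp hq =>
      rw [map_add]
      exact hp.add_right hq
    | monomial k c =>
      rw [aeval_monomial]
      have h3 : Commute S (algebraMap F (Module.End F V) c) := (Algebra.commutes c S).symm
      exact h3.mul_right (h1.pow_right k)
  exact h2

variable [FiniteDimensional F V]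

theorem Irr.irreducible [Nontrivial V] {T : Module.End F V} (hT : Irr T) : Irreducible (minpoly F T) := by
  have hint : IsIntegral F T := Algebra.IsIntegral.isIntegral T
  refine ⟨minpoly.not_isUnit F T, fun {f g} hfg => ?_⟩
  have h0 : aeval T f * aeval T g = 0 := by rw [← map_mul, ← hfg, minpoly.aeval]
  have hm := minpoly.ne_zero hint
  by_cases hf : aeval T f = 0
  · right
    obtain ⟨h, hh⟩ := minpoly.dvd F T hf
    have hf0 : f ≠ 0 := by
      rintro rfl
      rw [zero_mul] at hfg
      exact hm hfg
    have h1 : f * (g * h) = f * 1 := by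
      rw [← mul_assoc, ← hfg, ← hh, mul_one]
    exact IsUnit.of_mul_eq_one h (mul_left_cancel₀ hf0 h1)
  · left
    have h1 := ker_eq_bot_of_comm hT (comm_aeval (S := T) rfl f).symm hf
    have hg : aeval T g = 0 := by
      ext v
      have h2 := LinearMap.congr_fun h0 v
      rw [Module.End.mul_apply] at h2
      have h3 : aeval T g v ∈ LinearMap.ker (aeval T f) := h2
      rw [h1, Submodule.mem_bot] at h3
      exact h3
    obtain ⟨h, hh⟩ := minpoly.dvd F T hg
    have hg0 : g ≠ 0 := by
      rintro rfl
      rw [mul_zero] at hfg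
      exact hm hfg
    have h1 : g * (f * h) = g * 1 := by
      rw [← mul_assoc, mul_comm g f, ← hfg, ← hh, mul_one]
    exact IsUnit.of_mul_eq_one h (mul_left_cancel₀ hg0 h1)

/-- the field generated by `T` -/
noncomputable def chi (T : Module.End F V) : AdjoinRoot (minpoly F T) →ₐ[F] Module.End F V :=
  Ideal.Quotient.liftₐ (Ideal.span {minpoly F T}) (aeval T) (by
    intro a ha
    obtain ⟨b, rfl⟩ := Ideal.mem_span_singleton.1 ha
    rw [map_mul, minpoly.aeval, zero_mul])

theorem chi_mk (T : Module.End F V) (f : F[X]) : chi T (AdjoinRoot.mk _ f) = aeval T f := rfl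

theorem chi_root (T : Module.End F V) : chi T (AdjoinRoot.root _) = T := by
  have h1 := chi_mk T X
  rw [aeval_X] at h1
  exact h1

variable [Nontrivial V] {T : Module.End F V}

theorem chi_injective (hT : Irr T) : Function.Injective (chi T) := by
  have : Fact (Irreducible (minpoly F T)) := ⟨hT.irreducible⟩
  exact (chi T).toRingHom.injective

/-- the evaluation at a vector is bijective -/
theorem eval_bijective (hT : Irr T) {v : V} (hv : v ≠ 0) :
    Function.Bijective (fun k : AdjoinRoot (minpoly F T) => chi T k v) := by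
  have hfac : Fact (Irreducible (minpoly F T)) := ⟨hT.irreducible⟩
  let e : AdjoinRoot (minpoly F T) →ₗ[F] V := (LinearMap.applyₗ v).comp (chi T).toLinearMap
  have he : ∀ k, e k = chi T k v := fun k => rfl
  constructor
  · have h1 : Function.Injective e := by
      rw [injective_iff_map_eq_zero]
      intro k hk
      by_contra hk0
      rw [he] at hk
      apply hv
      have h2 : chi T (k⁻¹ * k) v = 0 := by rw [map_mul, Module.End.mul_apply, hk, map_zero]
      rw [inv_mul_cancel₀ hk0, map_one] at h2
      exact h2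
    exact h1
  · have h1 : LinearMap.range e = ⊤ := by
      refine (hT _ ?_).resolve_left ?_
      · rintro _ ⟨k, rfl⟩
        refine ⟨AdjoinRoot.root _ * k, ?_⟩
        rw [he, map_mul, chi_root, Module.End.mul_apply, he]
      · intro h
        have h2 : e 1 ∈ LinearMap.range e := ⟨1, rfl⟩
        rw [h, Submodule.mem_bot, he, map_one] at h2
        exact hv h2
    exact LinearMap.range_eq_top.1 h1

/-- the centralizer of `T` is the field -/
theorem mem_range_chi (hT : Irr T) {S : Module.End F V} (hc : S * T = T * S) : ∃ k, chi T k = S := by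
  obtain ⟨v, hv⟩ := exists_ne (0 : V)
  obtain ⟨k, hk⟩ := (eval_bijective hT hv).2 (S v)
  refine ⟨k, ?_⟩
  by_contra hne
  have h1 : (chi T k - S) * T = T * (chi T k - S) := by
    have h2 : chi T k * T = T * chi T k := by
      have h3 : chi T (k * AdjoinRoot.root _) = chi T (AdjoinRoot.root _ * k) := by rw [mul_comm]
      rwa [map_mul, map_mul, chi_root] at h3
    rw [sub_mul, mul_sub, hc, h2]
  have h2 := ker_eq_bot_of_comm hT h1 (sub_ne_zero.2 hne)
  have h3 : v ∈ LinearMap.ker (chi T k - S) := by
    rw [LinearMap.mem_ker, LinearMap.sub_apply, sub_eq_zero]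
    exact hk
  rw [h2, Submodule.mem_bot] at h3
  exact hv h3

theorem finrank_adjoin (hT : Irr T) : finrank F (AdjoinRoot (minpoly F T)) = finrank F V := by
  obtain ⟨v, hv⟩ := exists_ne (0 : V)
  let e : AdjoinRoot (minpoly F T) →ₗ[F] V := (LinearMap.applyₗ v).comp (chi T).toLinearMap
  exact (LinearEquiv.ofBijective e (eval_bijective hT hv)).finrank_eq

theorem det_chi (hT : Irr T) (k : AdjoinRoot (minpoly F T)) : LinearMap.det (chi T k) = Algebra.norm F k := by
  obtain ⟨v, hv⟩ := exists_ne (0 : V)
  let e : AdjoinRoot (minpoly F T) →ₗ[F] V := (LinearMap.applyₗ v).comp (chi T).toLinearMap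
  let e' : AdjoinRoot (minpoly F T) ≃ₗ[F] V := LinearEquiv.ofBijective e (eval_bijective hT hv)
  have he : ∀ k, e' k = chi T k v := fun k => rfl
  rw [Algebra.norm_apply, ← LinearMap.det_conj _ e']
  congr 1
  ext w
  obtain ⟨l, rfl⟩ := e'.surjective w
  simp only [LinearMap.comp_apply, LinearEquiv.coe_coe, e'.symm_apply_apply]
  rw [Algebra.coe_lmul_eq_mul, LinearMap.mul_apply', he, he, map_mul, Module.End.mul_apply]

end

section

variable {F : Type u} [Field F] [Fintype F] {V : Type v} [AddCommGroup V] [Module F V] [FiniteDimensional F V]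
  [Nontrivial V] {G : Type w} [Group G] [Finite G]

omit [Fintype F] [Finite G] in
theorem exists_hom (φ : G →* Module.End F V) (hφ : Function.Injective φ) {z : G} (hz : Irr (φ z)) :
    ∃ ψ : Subgroup.centralizer ({z} : Set G) →* (AdjoinRoot (minpoly F (φ z)))ˣ, Function.Injective ψ ∧
      ∀ g, chi (φ z) (ψ g : AdjoinRoot (minpoly F (φ z))) = φ g := by
  classical
  have hex : ∀ g : Subgroup.centralizer ({z} : Set G), ∃ k, chi (φ z) k = φ g := by
    intro g
    apply mem_range_chi hz
    rw [← map_mul, ← map_mul, Subgroup.mem_centralizer_singleton_iff.1 g.2]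
  have hinj := chi_injective hz
  choose f hf using hex
  let ψ₀ : Subgroup.centralizer ({z} : Set G) →* AdjoinRoot (minpoly F (φ z)) :=
    { toFun := f
      map_one' := hinj (by rw [hf, map_one, Subgroup.coe_one, map_one])
      map_mul' := fun a b => hinj (by rw [map_mul, hf, hf, hf, Subgroup.coe_mul, map_mul]) }
  refine ⟨ψ₀.toHomUnits, ?_, fun g => hf g⟩
  intro a b hab
  have h1 : f a = f b := congrArg Units.val hab
  apply Subtype.ext
  apply hφ
  rw [← hf a, ← hf b, h1]

omit [Fintype F] [Finite G] in
/-- the centralizer is abelian -/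
theorem comm_of_irr (φ : G →* Module.End F V) (hφ : Function.Injective φ) {z : G} (hz : Irr (φ z)) :
    ∀ u ∈ Subgroup.centralizer ({z} : Set G), ∀ v ∈ Subgroup.centralizer ({z} : Set G), u * v = v * u := by
  obtain ⟨ψ, hψ, -⟩ := exists_hom φ hφ hz
  intro u hu v hv
  have h1 : (⟨u, hu⟩ : Subgroup.centralizer ({z} : Set G)) * ⟨v, hv⟩ = ⟨v, hv⟩ * ⟨u, hu⟩ :=
    hψ (by rw [map_mul, map_mul, mul_comm])
  exact congrArg Subtype.val h1

theorem finite_adjoin {z : Module.End F V} (hz : Irr z) : Finite (AdjoinRoot (minpoly F z)) := by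
  obtain ⟨v, hv⟩ := exists_ne (0 : V)
  have : Finite F := Finite.of_fintype F
  have : Finite V := Module.finite_of_finite F
  exact Finite.of_injective _ (eval_bijective hz hv).1

theorem card_adjoin {z : Module.End F V} (hz : Irr z) :
    Nat.card (AdjoinRoot (minpoly F z)) = Fintype.card F ^ finrank F V := by
  obtain ⟨v, hv⟩ := exists_ne (0 : V)
  rw [Nat.card_congr (Equiv.ofBijective _ (eval_bijective hz hv)), Module.natCard_eq_pow_finrank (K := F) (V := V),
    Nat.card_eq_fintype_card]

/-- the order of the centralizer divides `q ^ n - 1` -/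
theorem card_cent_dvd (φ : G →* Module.End F V) (hφ : Function.Injective φ) {z : G} (hz : Irr (φ z)) :
    Nat.card (Subgroup.centralizer ({z} : Set G)) ∣ Fintype.card F ^ finrank F V - 1 := by
  have : Fact (Irreducible (minpoly F (φ z))) := ⟨hz.irreducible⟩
  have := finite_adjoin hz
  obtain ⟨ψ, hψ, -⟩ := exists_hom φ hφ hz
  have h1 := Subgroup.card_dvd_of_injective ψ hψ
  rwa [Nat.card_units, card_adjoin hz] at h1

/-- the order of the centralizer is at most `(q ^ n - 1) / (q - 1)` -/
theorem card_cent_le (φ : G →* Module.End F V) (hφ : Function.Injective φ) (hdet : ∀ g, LinearMap.det (φ g) = 1)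
    {z : G} (hz : Irr (φ z)) :
    Nat.card (Subgroup.centralizer ({z} : Set G)) ≤ (Fintype.card F ^ finrank F V - 1) / (Fintype.card F - 1) := by
  classical
  have : Fact (Irreducible (minpoly F (φ z))) := ⟨hz.irreducible⟩
  have := finite_adjoin hz
  obtain ⟨ψ, hψ, hc⟩ := exists_hom φ hφ hz
  set m := (Fintype.card F ^ finrank F V - 1) / (Fintype.card F - 1) with hm
  have hpow : ∀ g, ψ g ^ m = 1 := by
    intro g
    have h1 : Algebra.norm F (ψ g : AdjoinRoot (minpoly F (φ z))) = 1 := by
      rw [← det_chi hz, hc, hdet]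
    have h2 := FiniteField.algebraMap_norm_eq_pow (K := F) (K' := AdjoinRoot (minpoly F (φ z)))
      (x := (ψ g : AdjoinRoot (minpoly F (φ z))))
    rw [h1, map_one, card_adjoin hz, Nat.card_eq_fintype_card, ← hm] at h2
    exact Units.ext (by rw [Units.val_pow_eq_pow_val, ← h2, Units.val_one])
  have hm0 : 0 < m := by
    have hq : 1 < Fintype.card F := Fintype.one_lt_card
    have hn : 0 < finrank F V := finrank_pos
    have h1 : Fintype.card F ^ 1 ≤ Fintype.card F ^ finrank F V := Nat.pow_le_pow_right (by omega) hn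
    rw [pow_one] at h1
    exact Nat.div_pos (by omega) (by omega)
  have := Fintype.ofFinite (AdjoinRoot (minpoly F (φ z)))ˣ
  have := Fintype.ofFinite (Subgroup.centralizer ({z} : Set G))
  calc Nat.card (Subgroup.centralizer ({z} : Set G)) = (Finset.univ.image ψ).card := by
        rw [Finset.card_image_of_injective _ hψ, Finset.card_univ, Nat.card_eq_fintype_card]
    _ ≤ (Finset.univ.filter fun x : (AdjoinRoot (minpoly F (φ z)))ˣ => x ^ m = 1).card := by
        apply Finset.card_le_card
        intro x hx
        obtain ⟨g, -, rfl⟩ := Finset.mem_image.1 hx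
        exact Finset.mem_filter.2 ⟨Finset.mem_univ _, hpow g⟩
    _ ≤ m := IsCyclic.card_pow_eq_one_le hm0

/-- at most `n` powers of `z` are conjugate to `z` -/
theorem card_norm_le (φ : G →* Module.End F V) (hφ : Function.Injective φ) {z : G} (hz : Irr (φ z)) :
    Nat.card (Subgroup.normalizer ((Subgroup.zpowers z : Subgroup G) : Set G)) ≤
      finrank F V * Nat.card (Subgroup.centralizer ({z} : Set G)) := by
  classical
  have : Fact (Irreducible (minpoly F (φ z))) := ⟨hz.irreducible⟩
  have hinj := chi_injective hz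
  set N := Subgroup.normalizer ((Subgroup.zpowers z : Subgroup G) : Set G) with hN
  have hex : ∀ g : N, ∃ k, chi (φ z) k = φ (g * z * (g : G)⁻¹) := by
    intro g
    apply mem_range_chi hz
    have h1 : (g : G) * z * (g : G)⁻¹ ∈ Subgroup.zpowers z :=
      (Subgroup.mem_normalizer_iff.1 g.2 z).1 (Subgroup.mem_zpowers z)
    obtain ⟨i, hi⟩ := Subgroup.mem_zpowers_iff.1 h1
    rw [← map_mul, ← map_mul, ← hi, ← zpow_add_one, ← zpow_one_add, add_comm]
  choose f hf using hex
  have hroot : ∀ g, f g ∈ ((minpoly F (φ z)).map (algebraMap F (AdjoinRoot (minpoly F (φ z))))).roots.toFinset := by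
    intro g
    rw [Multiset.mem_toFinset, mem_roots', IsRoot.def, eval_map_algebraMap]
    refine ⟨(Polynomial.map_ne_zero_iff (algebraMap F _).injective).2
      (minpoly.ne_zero (Algebra.IsIntegral.isIntegral _)), hinj ?_⟩
    rw [← aeval_algHom_apply, hf, map_zero]
    -- conjugation
    have h1 : ∀ P : F[X], aeval (φ (g * z * (g : G)⁻¹)) P = φ g * aeval (φ z) P * φ (g : G)⁻¹ := by
      intro P
      induction P using Polynomial.induction_on' with
      | add p q hp hq => rw [map_add, map_add, hp, hq, mul_add, add_mul]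
      | monomial k c =>
        rw [aeval_monomial, aeval_monomial]
        have h2 : φ (g * z * (g : G)⁻¹) ^ k = φ g * φ z ^ k * φ (g : G)⁻¹ := by
          rw [← map_pow, conj_pow, map_mul, map_mul, map_pow]
        rw [h2, ← mul_assoc (φ g) _ (φ z ^ k), ← Algebra.commutes c (φ (g : G))]
        simp only [mul_assoc]
    rw [h1, minpoly.aeval, mul_zero, zero_mul]
  have := Fintype.ofFinite N
  have h1 : (Finset.univ : Finset N).card ≤
      Nat.card (Subgroup.centralizer ({z} : Set G)) * (Finset.univ.image f).card := by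
    apply Finset.card_le_mul_card_image
    intro b hb
    obtain ⟨g₀, -, rfl⟩ := Finset.mem_image.1 hb
    have := Fintype.ofFinite (Subgroup.centralizer ({z} : Set G))
    rw [Nat.card_eq_fintype_card, ← Finset.card_univ]
    have hmem : ∀ g : N, f g = f g₀ → (g₀ : G)⁻¹ * g ∈ Subgroup.centralizer ({z} : Set G) := by
      intro g hg
      have h2 : (g : G) * z * (g : G)⁻¹ = g₀ * z * (g₀ : G)⁻¹ := hφ (by rw [← hf, ← hf, hg])
      rw [Subgroup.mem_centralizer_singleton_iff]
      have h3 : (g₀ : G)⁻¹ * (g * z * (g : G)⁻¹) * g = (g₀ : G)⁻¹ * (g₀ * z * (g₀ : G)⁻¹) * g := by rw [h2]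
      calc (g₀ : G)⁻¹ * g * z = (g₀ : G)⁻¹ * (g * z * (g : G)⁻¹) * g := by group
        _ = (g₀ : G)⁻¹ * (g₀ * z * (g₀ : G)⁻¹) * g := h3
        _ = z * ((g₀ : G)⁻¹ * g) := by group
    refine Finset.card_le_card_of_injOn (fun g => if h : f g = f g₀ then ⟨(g₀ : G)⁻¹ * g, hmem g h⟩ else 1)
      (fun _ _ => Finset.mem_coe.2 (Finset.mem_univ _)) ?_
    intro a ha b hb hab
    have ha' : f a = f g₀ := (Finset.mem_filter.1 ha).2
    have hb' : f b = f g₀ := (Finset.mem_filter.1 hb).2
    simp only [ha', hb', dif_pos] at hab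
    have h2 : (g₀ : G)⁻¹ * a = (g₀ : G)⁻¹ * b := congrArg Subtype.val hab
    exact Subtype.ext (mul_left_cancel h2)
  have h2 : (Finset.univ.image f).card ≤ finrank F V := by
    calc (Finset.univ.image f).card
        ≤ ((minpoly F (φ z)).map (algebraMap F (AdjoinRoot (minpoly F (φ z))))).roots.toFinset.card := by
          apply Finset.card_le_card
          intro x hx
          obtain ⟨g, -, rfl⟩ := Finset.mem_image.1 hx
          exact hroot g
      _ ≤ Multiset.card ((minpoly F (φ z)).map (algebraMap F (AdjoinRoot (minpoly F (φ z))))).roots :=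
          Multiset.toFinset_card_le _
      _ ≤ ((minpoly F (φ z)).map (algebraMap F (AdjoinRoot (minpoly F (φ z))))).natDegree := card_roots' _
      _ = (minpoly F (φ z)).natDegree := natDegree_map _
      _ = finrank F (AdjoinRoot (minpoly F (φ z))) := (finrank_quotient_span_eq_natDegree).symm
      _ = finrank F V := finrank_adjoin hz
  rw [Nat.card_eq_fintype_card, ← Finset.card_univ, mul_comm]
  exact h1.trans (Nat.mul_le_mul_left _ h2)

end

end Cfsg.Agent.H230.AS
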