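import Mathlib

/-!
# Centralizers and normalizers of elements of prime order in central quotients (helper230)
-/

set_option autoImplicit false

namespace Cfsg.Agent.H230.AS

open Subgroup

universe u

variable {G : Type u} [Group G] [Finite G]

omit [Finite G] in
theorem card_comap_center (H : Subgroup (G ⧸ center G)) [Finite G] :
    Nat.card (H.comap (QuotientGroup.mk' (center G))) = Nat.card H * Nat.card (center G) := by
  have hπs : Function.Surjective (QuotientGroup.mk' (center G)) := QuotientGroup.mk'_surjective _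
  have h1 := card_mul_index (H.comap (QuotientGroup.mk' (center G)))
  have h2 := card_mul_index H
  have h3 : (H.comap (QuotientGroup.mk' (center G))).index = H.index := index_comap_of_surjective _ hπs
  have h4 : Nat.card G = Nat.card (G ⧸ center G) * Nat.card (center G) := card_eq_card_quotient_mul_card_subgroup _
  have h5 : 0 < H.index := Nat.pos_of_ne_zero index_ne_zero_of_finite
  rw [h3, h4, ← h2] at h1
  refine Nat.eq_of_mul_eq_mul_right h5 ?_
  rw [h1]
  ring

/-- elements of order `p` lift to elements of order `p` -/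
theorem exists_lift {p : ℕ} (hp : p.Prime) (hc : ¬ p ∣ Nat.card (center G)) {u : G ⧸ center G} (hu : orderOf u = p) :
    ∃ z : G, orderOf z = p ∧ QuotientGroup.mk' (center G) z = u := by
  set π := QuotientGroup.mk' (center G) with hπ
  have hπs : Function.Surjective π := QuotientGroup.mk'_surjective _
  obtain ⟨g, rfl⟩ := hπs u
  set t := Nat.card (center G) with ht
  have hcop : Nat.Coprime t p := ((Nat.Prime.coprime_iff_not_dvd hp).2 hc).symm
  obtain ⟨s, hs⟩ : ∃ s, t * s ≡ 1 [MOD p] := by
    have h1 := Nat.exists_mul_mod_eq_one_of_coprime hcop hp.one_lt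
    obtain ⟨s, -, hs⟩ := h1
    exact ⟨s, by rw [Nat.ModEq, hs, Nat.mod_eq_of_lt hp.one_lt]⟩
  set z := g ^ (t * s) with hz
  have hπz : π z = π g := by
    rw [hz, map_pow]
    have h1 : π g ^ (t * s) = π g ^ 1 := by
      rw [pow_eq_pow_iff_modEq, hu]
      exact hs
    rw [h1, pow_one]
  have hgp : g ^ p ∈ center G := by
    have h1 : π (g ^ p) = 1 := by rw [map_pow, ← hu, pow_orderOf_eq_one]
    rwa [hπ, ← MonoidHom.mem_ker, QuotientGroup.ker_mk'] at h1
  have hzp : z ^ p = 1 := by
    have h1 : (⟨g ^ p, hgp⟩ : center G) ^ t = 1 := pow_card_eq_one'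
    have h2 : (g ^ p) ^ t = 1 := congrArg Subtype.val h1
    rw [hz, ← pow_mul, show t * s * p = p * t * s by ring, pow_mul, pow_mul, h2, one_pow]
  have hz1 : z ≠ 1 := by
    intro h1
    rw [h1, map_one] at hπz
    rw [← hπz, orderOf_one] at hu
    exact hp.one_lt.ne hu
  have : Fact p.Prime := ⟨hp⟩
  exact ⟨z, orderOf_eq_prime hzp hz1, hπz⟩

/-- elements of order `p` congruent modulo the centre are equal -/
theorem eq_of_map_eq {p : ℕ} (hp : p.Prime) (hc : ¬ p ∣ Nat.card (center G)) {a b : G} (ha : a ^ p = 1) (hb : b ^ p = 1)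
    (h : QuotientGroup.mk' (center G) a = QuotientGroup.mk' (center G) b) : a = b := by
  have h1 : a * b⁻¹ ∈ center G := by
    have h2 : QuotientGroup.mk' (center G) (a * b⁻¹) = 1 := by rw [map_mul, map_inv, h, mul_inv_cancel]
    rwa [← MonoidHom.mem_ker, QuotientGroup.ker_mk'] at h2
  set c := a * b⁻¹ with hcd
  have h2 : a = c * b := by rw [hcd]; group
  have h3 : c ^ p = 1 := by
    have h5 : Commute c b := (mem_center_iff.1 h1 b).symm
    rw [h2, h5.mul_pow, hb, mul_one] at ha
    exact ha
  have h4 : orderOf (⟨c, h1⟩ : center G) ∣ Nat.gcd p (Nat.card (center G)) :=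
    Nat.dvd_gcd (orderOf_dvd_of_pow_eq_one (Subtype.ext h3)) (orderOf_dvd_natCard _)
  rw [Nat.Coprime.gcd_eq_one ((Nat.Prime.coprime_iff_not_dvd hp).2 hc), Nat.dvd_one, orderOf_eq_one_iff] at h4
  have h5 : c = 1 := congrArg Subtype.val h4
  rw [h2, h5, one_mul]

variable {p : ℕ} {z : G}

theorem comap_centralizer (hp : p.Prime) (hc : ¬ p ∣ Nat.card (center G)) (hz : orderOf z = p) :
    (centralizer ({QuotientGroup.mk' (center G) z} : Set (G ⧸ center G))).comap (QuotientGroup.mk' (center G)) =
      centralizer ({z} : Set G) := by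
  have hzp : z ^ p = 1 := by rw [← hz, pow_orderOf_eq_one]
  ext x
  rw [mem_comap, mem_centralizer_singleton_iff, mem_centralizer_singleton_iff]
  constructor
  · intro hx
    have h1 : x * z * x⁻¹ = z := by
      refine eq_of_map_eq hp hc (by rw [conj_pow, hzp]; group) hzp ?_
      rw [map_mul, map_mul, hx, map_inv]
      group
    exact mul_inv_eq_iff_eq_mul.1 h1
  · intro hx
    rw [← map_mul, hx, map_mul]

theorem comap_normalizer (hp : p.Prime) (hc : ¬ p ∣ Nat.card (center G)) (hz : orderOf z = p) :
    (normalizer ((zpowers (QuotientGroup.mk' (center G) z) : Subgroup (G ⧸ center G)) : Set (G ⧸ center G))).comap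
      (QuotientGroup.mk' (center G)) = normalizer ((zpowers z : Subgroup G) : Set G) := by
  have hzp : z ^ p = 1 := by rw [← hz, pow_orderOf_eq_one]
  have key : ∀ x : G, x ∈ normalizer ((zpowers z : Subgroup G) : Set G) ↔ x * z * x⁻¹ ∈ zpowers z := by
    intro x
    constructor
    · intro h
      exact (mem_normalizer_iff.1 h z).1 (mem_zpowers z)
    · intro h
      rw [mem_normalizer_iff_map_conj_eq]
      refine eq_of_le_of_card_ge ?_ (le_of_eq (card_map_of_injective (MulAut.conj x).injective).symm)
      rintro _ ⟨_, ⟨i, rfl⟩, rfl⟩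
      have h1 : (MulAut.conj x).toMonoidHom (z ^ i) = (x * z * x⁻¹) ^ i := by
        rw [map_zpow]
        rfl
      show (MulAut.conj x).toMonoidHom (z ^ i) ∈ zpowers z
      rw [h1]
      exact zpow_mem h i
  have key' : ∀ x : G ⧸ center G,
      x ∈ normalizer ((zpowers (QuotientGroup.mk' (center G) z) : Subgroup (G ⧸ center G)) : Set (G ⧸ center G)) ↔
        x * QuotientGroup.mk' (center G) z * x⁻¹ ∈ zpowers (QuotientGroup.mk' (center G) z) := by
    intro x
    constructor
    · intro h
      exact (mem_normalizer_iff.1 h _).1 (mem_zpowers _)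
    · intro h
      rw [mem_normalizer_iff_map_conj_eq]
      refine eq_of_le_of_card_ge ?_ (le_of_eq (card_map_of_injective (MulAut.conj x).injective).symm)
      rintro _ ⟨_, ⟨i, rfl⟩, rfl⟩
      have h1 : (MulAut.conj x).toMonoidHom (QuotientGroup.mk' (center G) z ^ i) =
          (x * QuotientGroup.mk' (center G) z * x⁻¹) ^ i := by
        rw [map_zpow]
        rfl
      show (MulAut.conj x).toMonoidHom (QuotientGroup.mk' (center G) z ^ i) ∈ _
      rw [h1]
      exact zpow_mem h i
  ext x
  rw [mem_comap, key, key']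
  constructor
  · intro hx
    obtain ⟨i, hi⟩ := mem_zpowers_iff.1 hx
    rw [mem_zpowers_iff]
    refine ⟨i, eq_of_map_eq hp hc ?_ (by rw [conj_pow, hzp]; group) ?_⟩
    · rw [← zpow_natCast, ← zpow_mul, mul_comm, zpow_mul, zpow_natCast, hzp, one_zpow]
    · rw [map_zpow, hi, map_mul, map_mul, map_inv]
  · intro hx
    obtain ⟨i, hi⟩ := mem_zpowers_iff.1 hx
    rw [mem_zpowers_iff]
    refine ⟨i, ?_⟩
    rw [← map_zpow, hi, map_mul, map_mul, map_inv]

end Cfsg.Agent.H230.AS
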