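import Mathlib
import Cfsg.Agent.H965.ASCyc
import Cfsg.Agent.H518.SUTable
import Cfsg.Agent.H230.AS.IrrCent
import Cfsg.Agent.H230.AS.Quot
import Cfsg.Agent.S2140

/-!
# S3943: `AS2` for `PSL_n(q)`, `n ≥ 3` (helper230)
-/

set_option autoImplicit false

namespace Cfsg.Agent.H230.AS

open Subgroup Module Cfsg.Agent.H518.DghpFix Cfsg.Agent.H518.DghpPrim Cfsg.Agent.H518.DghpMat Cfsg.Agent.H518.SU
open Cfsg.Agent.H965.AS Cfsg.Agent.H965.SU Cfsg.Agent.H465.SU

/-- the primes used, with one more inequality -/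
theorem exists_pack_irred' {p₀ f q e : ℕ} (hp₀ : p₀.Prime) (hf : 1 ≤ f) (hq : q = p₀ ^ f) (he : 3 ≤ e)
    (h26 : ¬ (q = 2 ∧ e = 6)) (h34 : ¬ (q = 3 ∧ e = 4)) :
    ∃ p a, Pack q e f p a ∧ Size q e p a ∧ (2 * e < p ^ a * Nat.gcd e (q - 1) ∨ (q = 2 ∧ f = 1)) := by
  by_cases hexc : Exc q e
  · have hf1 : f = 1 := by
      by_contra hcon
      have hpr : q.Prime := by
        rcases hexc with ⟨rfl, _⟩ | ⟨rfl, _⟩ | ⟨rfl, _⟩ <;> norm_num
      rw [hq] at hpr
      exact hcon (hpr.eq_one_of_pow)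
    obtain ⟨p, a, hP, hS⟩ := exists_pack_irred hp₀ hf hq he h26 h34
    refine ⟨p, a, hP, hS, ?_⟩
    obtain ⟨hp, hp5, ha, hord, hdvd, hdvd', hpf⟩ := hP
    have h1 : e + 1 ≤ p := by
      have := lt_prime hp hord (by omega)
      omega
    have h2 : p ≤ p ^ a := by
      have : p ^ 1 ≤ p ^ a := Nat.pow_le_pow_right hp.pos ha
      rwa [pow_one] at this
    rcases hexc with ⟨rfl, h⟩ | ⟨rfl, h⟩ | ⟨rfl, h⟩
    · exact Or.inr ⟨rfl, hf1⟩
    · rcases h with rfl | rfl
      · exact absurd ⟨rfl, rfl⟩ h34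
      · left
        have : Nat.gcd 6 (3 - 1) = 2 := by norm_num
        rw [this]
        omega
    · subst h
      left
      have : Nat.gcd 6 (5 - 1) = 2 := by norm_num
      rw [this]
      omega
  · obtain ⟨p, a, h1, h2⟩ := exists_pack hp₀ hf hq he hexc
    refine ⟨p, a, h1, Or.inl (h2 e (by omega)), Or.inl ?_⟩
    have h3 := h2 (2 * e - 1) (by omega)
    have h4 : 1 ≤ p ^ (a - 1) := Nat.one_le_pow _ _ h1.1.pos
    have h5 : 1 ≤ Nat.gcd e (q - 1) := Nat.gcd_pos_of_pos_left _ (by omega)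
    have h6 : p ^ a * 1 ≤ p ^ a * Nat.gcd e (q - 1) := Nat.mul_le_mul_left _ h5
    omega

theorem center_bot {S : Type*} [Group S] [IsSimpleGroup S] (hna : ¬ IsMulCommutative S) : center S = ⊥ := by
  rcases (inferInstance : (center S).Normal).eq_bot_or_eq_top with h1 | h1
  · exact h1
  · exfalso
    apply hna
    refine ⟨⟨fun a b => ?_⟩⟩
    have : b ∈ center S := by rw [h1]; trivial
    exact mem_center_iff.1 this a

variable {F : Type} [Field F] [Fintype F] {n : ℕ}

theorem card_psl_index (hn : 3 ≤ n) : 2 * n < (Fintype.card F ^ n - 1) / (Fintype.card F - 1) := by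
  have hq : 2 ≤ Fintype.card F := Fintype.one_lt_card
  set q := Fintype.card F with hqd
  have h1 : ∀ m, 3 ≤ m → 2 * m < 2 ^ m - 1 := by
    intro m hm
    induction m, hm using Nat.le_induction with
    | base => norm_num
    | succ m hm ih =>
      rw [pow_succ]
      omega
  have h2 : ∀ m, 1 ≤ m → (2 ^ m - 1) * (q - 1) ≤ q ^ m - 1 := by
    intro m hm
    have h0 := Nat.geomSum_eq hq m
    have h3 : (2 ^ m - 1) ≤ (q ^ m - 1) / (q - 1) := by
      rw [← h0]
      have h5 := Nat.geomSum_eq (m := 2) le_rfl m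
      have h6 : (2 ^ m - 1) / (2 - 1) = 2 ^ m - 1 := by norm_num
      rw [← h6, ← h5]
      exact Finset.sum_le_sum fun i _ => Nat.pow_le_pow_left hq i
    calc (2 ^ m - 1) * (q - 1) ≤ (q ^ m - 1) / (q - 1) * (q - 1) := Nat.mul_le_mul_right _ h3
      _ ≤ q ^ m - 1 := Nat.div_mul_le_self _ _
  refine (h1 n hn).trans_le ?_
  rw [Nat.le_div_iff_mul_le (by omega)]
  exact h2 n (by omega)

/-- **`AS2` for `PSL_n(q)`, `n ≥ 3`.** -/
theorem as2_psl (hn : 3 ≤ n) (h26 : ¬ (Fintype.card F = 2 ∧ n = 6)) (h34 : ¬ (Fintype.card F = 3 ∧ n = 4))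
    (h42 : ¬ (Fintype.card F = 2 ∧ n = 4)) [IsSimpleGroup (Matrix.ProjectiveSpecialLinearGroup (Fin n) F)]
    (hna : ¬ IsMulCommutative (Matrix.ProjectiveSpecialLinearGroup (Fin n) F)) :
    AS2 (Matrix.ProjectiveSpecialLinearGroup (Fin n) F) := by
  obtain ⟨p₀, f, hp₀, hf, hq⟩ := exists_pf F rfl
  obtain ⟨q, hF⟩ : ∃ q, Fintype.card F = q := ⟨_, rfl⟩
  rw [hF] at h26 h34 h42 hq
  have hq1 : 1 < q := hF ▸ Fintype.one_lt_card
  have hfin : Finite (Matrix.ProjectiveSpecialLinearGroup (Fin n) F) :=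
    inferInstanceAs (Finite (Matrix.SpecialLinearGroup (Fin n) F ⧸ center (Matrix.SpecialLinearGroup (Fin n) F)))
  obtain ⟨p, a, ⟨hp, hp5, ha, hord, hdvd, hdvd', hpf⟩, hs, hineq⟩ := exists_pack_irred' hp₀ hf hq hn h26 h34
  have hd : finrank F (Fin n → F) = n := by rw [finrank_pi_fin, Fintype.card_fin]
  have hpq : ¬ p ∣ q := not_dvd_of_orderOf hp hord (by omega)
  set φ := matRep (slHom (Fin n) F) with hφd
  have hφ : Function.Injective φ := matRep_injective (slHom_injective _ _)
  obtain ⟨y, hy, hel⟩ := exists_el_irred φ hφ hp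
    (by omega) ha (by rwa [hF]) (by rw [hF, hord, hd]) (by rw [hd]; omega)
    (by rw [hF, hd]; exact hs) (hdvd.trans (pow_sub_one_dvd_card_SL hF (by omega) le_rfl))
  have hcardSL : ¬ p ^ (a + 1) ∣ Nat.card (Matrix.SpecialLinearGroup (Fin n) F) := by
    obtain ⟨m, rfl⟩ : ∃ m, n = m + 1 := ⟨n - 1, by omega⟩
    rw [card_SL_succ hF, mul_comm]
    refine not_pow_dvd_mul_of_not_dvd hp (not_dvd_pow hp hpq) ?_
    have hm : 0 < m := by omega
    refine not_pow_dvd_prod hp Finset.univ _ (⟨0, hm⟩ : Fin m) (by simpa using hdvd') ?_ (Finset.mem_univ _)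
    intro i _ hi
    have hi0 : (i : ℕ) ≠ 0 := fun h => hi (Fin.ext h)
    have h1 : q ^ (m + 1) - q ^ (i : ℕ) = q ^ (i : ℕ) * (q ^ (m + 1 - i) - 1) := by
      rw [Nat.mul_sub, mul_one, ← pow_add]
      congr 2
      have := i.2
      omega
    rw [h1]
    intro h2
    rcases (Nat.Prime.dvd_mul hp).1 h2 with h3 | h3
    · exact not_dvd_pow hp hpq h3
    · have := i.2
      exact not_dvd_of_lt (by omega) hord (by omega) (by omega) h3
  -- the centre
  have hZcard : Nat.card (center (Matrix.SpecialLinearGroup (Fin n) F)) = Nat.gcd n (q - 1) := by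
    have h2 := Cfsg.Agent.S0243.result hF n (by omega)
    have h3 := Cfsg.Agent.S0242.result hF n (by omega)
    have h4 : (q - 1) * (Nat.gcd n (q - 1) * Nat.card (Matrix.ProjectiveSpecialLinearGroup (Fin n) F)) =
        (q - 1) * Nat.card (Matrix.SpecialLinearGroup (Fin n) F) := by
      rw [h3, ← h2]
      ring
    have h5 := Nat.eq_of_mul_eq_mul_left (by omega) h4
    have h6 : Nat.card (Matrix.SpecialLinearGroup (Fin n) F) =
        Nat.card (Matrix.ProjectiveSpecialLinearGroup (Fin n) F) *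
          Nat.card (Subgroup.center (Matrix.SpecialLinearGroup (Fin n) F)) :=
      Subgroup.card_eq_card_quotient_mul_card_subgroup _
    rw [h6, mul_comm] at h5
    exact (Nat.eq_of_mul_eq_mul_left Nat.card_pos h5).symm
  have hpq1 : ¬ p ∣ q - 1 := by
    have h8 := not_dvd_of_lt (j := 1) (by omega) hord one_pos (by omega)
    rwa [pow_one] at h8
  have hZ : ¬ p ∣ Nat.card (center (Matrix.SpecialLinearGroup (Fin n) F)) := by
    rw [hZcard]
    exact fun h => hpq1 (h.trans (Nat.gcd_dvd_right _ _))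
  -- the outer automorphism group
  have hcb : center (Matrix.ProjectiveSpecialLinearGroup (Fin n) F) = ⊥ := center_bot hna
  have hout : Nat.card (Cfsg.Out (Matrix.ProjectiveSpecialLinearGroup (Fin n) F)) = 2 * f * Nat.gcd n (q - 1) := by
    have h1 := H163.PG.card_out_psl (F := F) hp₀ hf (hF.trans hq) hn hcb
    rwa [hF] at h1
  have hpout : ¬ p ∣ Nat.card (Cfsg.Out (Matrix.ProjectiveSpecialLinearGroup (Fin n) F)) := by
    rw [hout]
    intro h
    rcases (Nat.Prime.dvd_mul hp).1 h with h1 | h1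
    · rcases (Nat.Prime.dvd_mul hp).1 h1 with h2 | h2
      · have := Nat.le_of_dvd (by norm_num) h2
        omega
      · exact hpf h2
    · exact hpq1 (h1.trans (Nat.gcd_dvd_right _ _))
  -- the row
  set π := QuotientGroup.mk' (center (Matrix.SpecialLinearGroup (Fin n) F)) with hπ
  have hker : π.ker = center _ := QuotientGroup.ker_mk' _
  have hker' : ¬ p ∣ Nat.card π.ker := by rwa [hker]
  have hordy : orderOf (π y) = p ^ a := orderOf_map hp hy _ hker'
  have hely : El p (π y) := by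
    refine hel.map hp _ (QuotientGroup.mk'_surjective _) ?_ hker'
    rw [hker]
    exact Group.isSolvable_of_comm fun a b => Subtype.ext ((Subgroup.mem_center_iff.1 b.2) a)
  have hfull : ¬ p ^ (a + 1) ∣ Nat.card (Matrix.ProjectiveSpecialLinearGroup (Fin n) F) := by
    intro h
    apply hcardSL
    rw [Subgroup.card_eq_card_quotient_mul_card_subgroup (center (Matrix.SpecialLinearGroup (Fin n) F))]
    exact Dvd.dvd.mul_right h _
  have hrow : SURow (Matrix.ProjectiveSpecialLinearGroup (Fin n) F) p a (π y) :=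
    { hp := hp
      odd := by omega
      ha := ha
      ord := hordy
      su := by
        refine ⟨fun h => ?_, ⟨a, hordy⟩, fun M hM hyM A B hA hB hA' hB' =>
          hely.eq_of_card hp ha hordy M hM hyM A B hA hB hA' hB'⟩
        rw [h, orderOf_one] at hordy
        exact (Nat.one_lt_pow (by omega) hp.one_lt).ne hordy
      full := hfull
      inn := fun b hb => inner_of_card hp hpout b hb }
  -- the element of order `p`
  set z := y ^ p ^ (a - 1) with hzd
  have hz : orderOf z = p := orderOf_pow_pred hp ha hy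
  have hπz : π y ^ p ^ (a - 1) = π z := (map_pow π y _).symm
  have hirr : Irr (φ z) := by
    intro U hU
    refine invariant_eq (r := p) (k := 1) hp (by rwa [hF]) ?_ ?_ (by rw [hF, hord, hd]) U hU
    · rw [pow_one, ← map_pow, ← hz, pow_orderOf_eq_one, map_one]
    · intro h
      have h1 : z = 1 := hφ (by rw [h, map_one])
      rw [h1, orderOf_one] at hz
      exact hp.one_lt.ne hz
  have : Nontrivial (Fin n → F) := by
    have : Nonempty (Fin n) := ⟨⟨0, by omega⟩⟩
    infer_instance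
  have hdet : ∀ g, LinearMap.det (φ g) = 1 := by
    intro g
    have h1 : φ g = Matrix.toLin' (g : Matrix (Fin n) (Fin n) F) := rfl
    rw [h1, LinearMap.det_toLin']
    exact g.2
  have hab := comm_of_irr φ hφ hirr
  have hc1 := card_cent_dvd φ hφ hirr
  have hc2 := card_cent_le φ hφ hdet hirr
  have hc3 := card_norm_le φ hφ hirr
  rw [hF, hd] at hc1 hc2
  rw [hd] at hc3
  -- in the quotient
  have hC := comap_centralizer hp hZ hz
  have hN := comap_normalizer hp hZ hz
  have hcC := card_comap_center (G := Matrix.SpecialLinearGroup (Fin n) F) (centralizer {π z})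
  have hcN := card_comap_center (G := Matrix.SpecialLinearGroup (Fin n) F)
    (normalizer ((zpowers (π z) : Subgroup _) : Set (Matrix.SpecialLinearGroup (Fin n) F ⧸ center _)))
  rw [← hπ] at hC hN hcC hcN
  rw [hC] at hcC
  rw [hN] at hcN
  have hZpos : 0 < Nat.card (center (Matrix.SpecialLinearGroup (Fin n) F)) := Nat.card_pos
  have hmin := (Cfsg.Agent.S2140.result hF n hn (fun h => h42 ⟨h.2, h.1⟩)).1
  have h2n : 2 * n < (q ^ n - 1) / (q - 1) := by
    rw [← hF]
    exact card_psl_index hn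
  set m := (q ^ n - 1) / (q - 1) with hm
  refine AS2.of_row_ab (c := Nat.card (centralizer ({π z} : Set _))) (b := m) (e := n) hna hrow hp5 ?_ ?_ ?_ hmin h2n ?_
  · rw [hπz]
    intro u hu v hv
    obtain ⟨u', rfl⟩ := QuotientGroup.mk'_surjective _ u
    obtain ⟨v', rfl⟩ := QuotientGroup.mk'_surjective _ v
    have hu' : u' ∈ centralizer ({z} : Set _) := by rw [← hC]; exact hu
    have hv' : v' ∈ centralizer ({z} : Set _) := by rw [← hC]; exact hv
    rw [← map_mul, ← map_mul, hab u' hu' v' hv']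
  · rw [hπz]
  · rw [hπz]
    refine Nat.le_of_mul_le_mul_right (c := Nat.card (center (Matrix.SpecialLinearGroup (Fin n) F))) ?_ hZpos
    rw [mul_assoc, ← hcN, ← hcC]
    exact hc3
  · rw [hπz]
    intro s hs hsd hsp
    have hcpos : 0 < Nat.card (centralizer ({π z} : Set (Matrix.ProjectiveSpecialLinearGroup (Fin n) F))) := Nat.card_pos
    have hle : Nat.card (centralizer ({π z} : Set (Matrix.ProjectiveSpecialLinearGroup (Fin n) F))) *
        Nat.gcd n (q - 1) ≤ m := by
      rw [← hZcard]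
      exact hcC ▸ hc2
    set c := Nat.card (centralizer ({π z} : Set (Matrix.ProjectiveSpecialLinearGroup (Fin n) F))) with hcd
    rcases hineq with h | ⟨hq2, hf1⟩
    · left
      calc 2 * (n * c) = 2 * n * c := by ring
        _ < p ^ a * Nat.gcd n (q - 1) * c := Nat.mul_lt_mul_of_pos_right h hcpos
        _ = p ^ a * (c * Nat.gcd n (q - 1)) := by ring
        _ ≤ p ^ a * m := Nat.mul_le_mul_left _ hle
    · right
      have hs2 : s = 2 := by
        rw [hout, hf1, hq2] at hsd
        have h1 : 2 * 1 * Nat.gcd n (2 - 1) = 2 := by simp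
        rw [h1] at hsd
        exact (Nat.prime_dvd_prime_iff_eq hs Nat.prime_two).1 hsd
      constructor
      · rw [hs2]
        intro h2
        have h3 : 2 ∣ q ^ n - 1 := (h2.trans (hcC ▸ Dvd.intro _ rfl)).trans hc1
        rw [hq2] at h3
        have h4 : 2 ∣ 2 ^ n := dvd_pow_self 2 (by omega)
        have h5 : 1 ≤ 2 ^ n := Nat.one_le_pow _ _ (by omega)
        omega
      · have h1 : c * 1 ≤ c * Nat.gcd n (q - 1) := Nat.mul_le_mul_left _ (Nat.gcd_pos_of_pos_left _ (by omega))
        have h2 : p ^ 1 ≤ p ^ a := Nat.pow_le_pow_right hp.pos ha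
        rw [pow_one] at h2
        have h3 : 5 * m ≤ p ^ a * m := Nat.mul_le_mul_right _ (by omega)
        omega

end Cfsg.Agent.H230.AS
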